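import Mathlib.AlgebraicGeometry.Morphisms.Flat
import Mathlib.AlgebraicGeometry.AffineScheme
import Mathlib.LinearAlgebra.TensorProduct.Quotient
import Mathlib.LinearAlgebra.FreeModule.Basic
import Mathlib.RingTheory.Flat.Basic

/-! Schematic density of flat subschemes can be tested modulo a nilpotent ideal with free graded pieces. -/

set_option autoImplicit false
universe u w
open CategoryTheory CategoryTheory.Limits AlgebraicGeometry TensorProduct

namespace Groth.Agent.DenseNil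

variable {A : Type u} [CommRing A] (J : Ideal A) (k : ℕ)

/-- Lifts of a basis of `J^k / J^(k+1)` stay independent modulo `J` in a flat algebra. -/
theorem coord_mem_map {S : Type u} [CommRing S] [Algebra A S] [Module.Flat A S]
    (c : ↥(J ^ k) →ₗ[A] A ⧸ J) {ι : Type w} (e : ι → ↥(J ^ k)) (s : ι →₀ S) (j : ι)
    (hj : c (e j) = 1) (hne : ∀ i, i ≠ j → c (e i) = 0)
    (hx : (s.sum fun i a => a * algebraMap A S (e i : A)) ∈ (J ^ (k + 1)).map (algebraMap A S)) :
    s j ∈ J.map (algebraMap A S) := by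
  let m : S ⊗[A] ↥(J ^ k) →ₗ[A] S := (TensorProduct.rid A S).toLinearMap ∘ₗ (J ^ k).subtype.lTensor S
  have hm : Function.Injective m :=
    (TensorProduct.rid A S).injective.comp
      (Module.Flat.lTensor_preserves_injective_linearMap _ Subtype.val_injective)
  have hm1 : ∀ (a : S) (y : ↥(J ^ k)), m (a ⊗ₜ y) = a * algebraMap A S (y : A) := fun a y => by
    simp [m, Algebra.smul_def, mul_comm]
  let I := J.map (algebraMap A S)
  let q : A ⧸ J →+* S ⧸ I := Ideal.quotientMap I (algebraMap A S) Ideal.le_comap_map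
  have hq : ∀ (a : A) (z : A ⧸ J), q (a • z) = a • q z := fun a z => by
    obtain ⟨z, rfl⟩ := Ideal.Quotient.mk_surjective z
    rw [Algebra.smul_def, Algebra.smul_def, map_mul]
    rfl
  let D : S ⊗[A] ↥(J ^ k) →ₗ[A] S ⧸ I := TensorProduct.lift
    (LinearMap.mk₂ A (fun a y => Ideal.Quotient.mk I a * q (c y))
      (fun a b y => by simp [add_mul])
      (fun r a y => by
        rw [show Ideal.Quotient.mk I (r • a) = r • Ideal.Quotient.mk I a from rfl, smul_mul_assoc])
      (fun a y z => by simp [mul_add])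
      (fun r a y => by rw [map_smul, hq, mul_smul_comm]))
  have hms : ∀ (r : S) (τ : S ⊗[A] ↥(J ^ k)), m (r • τ) = r * m τ ∧ D (r • τ) = Ideal.Quotient.mk I r * D τ := by
    intro r τ
    induction τ using TensorProduct.induction_on with
    | zero => simp
    | tmul a y =>
      rw [smul_tmul', hm1, hm1]
      exact ⟨by rw [smul_eq_mul, mul_assoc], by simp [D, mul_assoc]⟩
    | add a b ha hb =>
      rw [smul_add, map_add, map_add, map_add, map_add, ha.1, hb.1, ha.2, hb.2]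
      exact ⟨(mul_add _ _ _).symm, (mul_add _ _ _).symm⟩
  have hkill : ∀ (y : ↥(J ^ k)) (a : A), a ∈ J → c (a • y) = 0 := fun y a ha => by
    rw [map_smul, Algebra.smul_def, Ideal.Quotient.algebraMap_eq, Ideal.Quotient.eq_zero_iff_mem.2 ha, zero_mul]
  have hgen : ∀ z ∈ J * J ^ k, ∃ h : z ∈ J ^ k, c ⟨z, h⟩ = 0 := by
    intro z hz
    refine Submodule.mul_induction_on hz (fun a ha y hy => ⟨Ideal.mul_mem_left _ a hy, hkill ⟨y, hy⟩ a ha⟩) ?_
    rintro z z' ⟨h, e1⟩ ⟨h', e2⟩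
    refine ⟨add_mem h h', ?_⟩
    rw [show (⟨z + z', add_mem h h'⟩ : ↥(J ^ k)) = ⟨z, h⟩ + ⟨z', h'⟩ from rfl, map_add, e1, e2, add_zero]
  obtain ⟨τ, hτm, hτD⟩ : ∃ τ, m τ = (s.sum fun i a => a * algebraMap A S (e i : A)) ∧ D τ = 0 := by
    revert hx
    generalize (s.sum fun i a => a * algebraMap A S (e i : A)) = x
    intro hx
    induction hx using Submodule.span_induction with
    | mem x hx =>
      obtain ⟨z, hz, rfl⟩ := hx
      obtain ⟨h, hc⟩ := hgen z (by rwa [← pow_succ'])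
      exact ⟨1 ⊗ₜ ⟨z, h⟩, by rw [hm1, one_mul], by simp [D, hc]⟩
    | zero => exact ⟨0, map_zero _, map_zero _⟩
    | add x y _ _ hx hy =>
      obtain ⟨a, ha, ha'⟩ := hx
      obtain ⟨b, hb, hb'⟩ := hy
      exact ⟨a + b, by rw [map_add, ha, hb], by rw [map_add, ha', hb', add_zero]⟩
    | smul r x _ hx =>
      obtain ⟨a, ha, ha'⟩ := hx
      exact ⟨r • a, by rw [(hms r a).1, ha, smul_eq_mul], by rw [(hms r a).2, ha', mul_zero]⟩
  have hτ : τ = s.sum fun i a => a ⊗ₜ[A] e i := hm (hτm.trans (by simp [Finsupp.sum, hm1]))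
  rw [hτ, map_finsuppSum, Finsupp.sum_eq_single j (fun i _ hi => by simp [D, hne i hi]) (by simp [D])] at hτD
  refine Ideal.Quotient.eq_zero_iff_mem.1 ?_
  simpa [D, hj] using hτD

/-- A basis of `J^k / J^(k+1)` lifts to generators of `J^k` modulo `J^(k+1)` with coordinates. -/
theorem exists_lift_basis [Module.Free (A ⧸ J) ((A ⧸ J) ⊗[A] ↥(J ^ k))] :
    ∃ (ι : Type u) (e : ι → ↥(J ^ k)),
      (∀ j, ∃ c : ↥(J ^ k) →ₗ[A] A ⧸ J, c (e j) = 1 ∧ ∀ i, i ≠ j → c (e i) = 0) ∧
      J ^ k ≤ Ideal.span (Set.range fun i => (e i : A)) ⊔ J ^ (k + 1) := by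
  let b := Module.Free.chooseBasis (A ⧸ J) ((A ⧸ J) ⊗[A] ↥(J ^ k))
  let f : ↥(J ^ k) →ₗ[A] (A ⧸ J) ⊗[A] ↥(J ^ k) := TensorProduct.mk A (A ⧸ J) _ 1
  have hf : Function.Surjective f := TensorProduct.mk_surjective A _ (A ⧸ J) Ideal.Quotient.mk_surjective
  choose e he using fun i => hf (b i)
  refine ⟨_, e, fun j => ⟨(b.coord j).restrictScalars A ∘ₗ f, by simp [he], fun i hi => by simp [he, hi]⟩, ?_⟩
  intro y hy
  obtain ⟨g, hg⟩ : ∃ g : _ →₀ A, f (g.sum fun i a => a • e i) = f ⟨y, hy⟩ := by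
    obtain ⟨g, hg⟩ := Finsupp.mapRange_surjective (Ideal.Quotient.mk J) (map_zero _) Ideal.Quotient.mk_surjective
      (b.repr (f ⟨y, hy⟩))
    refine ⟨g, ?_⟩
    refine Eq.trans ?_ (b.linearCombination_repr (f ⟨y, hy⟩))
    rw [← hg, Finsupp.linearCombination_apply, Finsupp.sum_mapRange_index (fun i => by simp), map_finsuppSum]
    exact Finsupp.sum_congr fun i _ => by rw [map_smul, he, ← Ideal.Quotient.algebraMap_eq, algebraMap_smul]
  let d : ↥(J ^ k) := ⟨y, hy⟩ - g.sum fun i a => a • e i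
  have hd : f d = 0 := by rw [map_sub, hg, sub_self]
  have hd' : d ∈ J • (⊤ : Submodule A ↥(J ^ k)) := by
    have h := congrArg (quotTensorEquivQuotSMul ↥(J ^ k) J) hd
    rw [map_zero] at h
    exact (Submodule.Quotient.mk_eq_zero _).1 (by simpa [f] using h)
  have hd'' : (d : A) ∈ J ^ (k + 1) := by
    have h := Submodule.mem_map_of_mem (f := (J ^ k).subtype) hd'
    rw [Submodule.map_smul'', Submodule.map_top, Submodule.range_subtype, smul_eq_mul] at h
    rwa [pow_succ']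
  refine Submodule.mem_sup.2 ⟨((g.sum fun i a => a • e i : ↥(J ^ k)) : A), ?_, d, hd'', by simp [d]⟩
  rw [show ((g.sum fun i a => a • e i : ↥(J ^ k)) : A) = (J ^ k).subtype (g.sum fun i a => a • e i) from rfl,
    map_finsuppSum]
  exact Submodule.sum_mem _ fun i _ => by
    simpa using Ideal.mul_mem_left _ (g i) (Ideal.subset_span (Set.mem_range_self (f := fun i => (e i : A)) i))

/-- Induction step: an element killed in every member of a jointly "injective mod `J`" family of flat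
algebras goes one step deeper in the `J`-adic filtration. -/
theorem mem_map_succ [Module.Free (A ⧸ J) ((A ⧸ J) ⊗[A] ↥(J ^ k))] {R : Type u} [CommRing R] (α : A →+* R)
    {κ : Type w} (S : κ → Type u) [∀ i, CommRing (S i)] (φ : ∀ i, R →+* S i)
    (hflat : ∀ i, ((φ i).comp α).Flat)
    (hdet : ∀ r : R, (∀ i, φ i r ∈ J.map ((φ i).comp α)) → r ∈ J.map α)
    {t : R} (ht : t ∈ (J ^ k).map α) (hzero : ∀ i, φ i t = 0) : t ∈ (J ^ (k + 1)).map α := by
  obtain ⟨ι, e, hc, hspan⟩ := exists_lift_basis J k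
  have h := Ideal.map_mono (f := α) hspan ht
  rw [Ideal.map_sup, Ideal.map_span, ← Set.range_comp] at h
  obtain ⟨a, ha, b, hb, rfl⟩ := Submodule.mem_sup.1 h
  obtain ⟨r, rfl⟩ := Finsupp.mem_span_range_iff_exists_finsupp.1 ha
  refine add_mem (Submodule.sum_mem _ fun j _ => ?_) hb
  have hr : r j ∈ J.map α := by
    refine hdet _ fun i => ?_
    obtain ⟨c, hj, hne⟩ := hc j
    letI := ((φ i).comp α).toAlgebra
    haveI : Module.Flat A (S i) := hflat i
    have h1 := coord_mem_map J k (S := S i) c e (r.mapRange (φ i) (map_zero _)) j hj hne ?_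
    · rw [Finsupp.mapRange_apply] at h1
      exact h1
    rw [Finsupp.sum_mapRange_index (fun _ => zero_mul _)]
    have h0 := hzero i
    rw [map_add, map_finsuppSum] at h0
    have h2 : (r.sum fun l a => φ i a * algebraMap A (S i) (e l : A)) = - φ i b := by
      rw [← eq_neg_iff_add_eq_zero] at h0
      rw [← h0]
      exact Finsupp.sum_congr fun l _ => by simp [RingHom.algebraMap_toAlgebra, smul_eq_mul]
    rw [h2]
    refine neg_mem ?_
    have h3 := Ideal.mem_map_of_mem (φ i) hb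
    rw [Ideal.map_map] at h3
    exact h3
  show r j • α (e j : A) ∈ _
  rw [smul_eq_mul, pow_succ', Ideal.map_mul]
  exact Ideal.mul_mem_mul hr (Ideal.mem_map_of_mem α (e j).2)

theorem app_eq_zero_congr {X Y : Scheme.{u}} {f g : X ⟶ Y} (h : f = g) {U : Y.Opens} {r : Γ(Y, U)}
    (hr : f.app U r = 0) : g.app U r = 0 := by subst h; exact hr

theorem app_comp_eq_zero {X Y Z : Scheme.{u}} (f : X ⟶ Y) (g : Y ⟶ Z) {U : Z.Opens} {r : Γ(Z, U)}
    (hr : (f ≫ g).app U r = 0) : f.app (g ⁻¹ᵁ U) (g.app U r) = 0 := hr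

/-- Over `A ⧸ J` every function coming from `J` vanishes. -/
theorem appLE_eq_zero_of_mem {A : CommRingCat.{u}} (J : Ideal A) {Y : Scheme.{u}}
    (g : Y ⟶ Spec (CommRingCat.of (A ⧸ J))) (V : Y.Opens) {a : A} (ha : a ∈ J) :
    ((g ≫ Spec.map (CommRingCat.ofHom (Ideal.Quotient.mk J))).appLE ⊤ V le_top).hom
      ((Scheme.ΓSpecIso A).inv a) = 0 := by
  have h : (Spec.map (CommRingCat.ofHom (Ideal.Quotient.mk J))).appTop ((Scheme.ΓSpecIso A).inv a) = 0 := by
    have h1 := CategoryTheory.congr_fun (Scheme.ΓSpecIso_inv_naturality (CommRingCat.ofHom (Ideal.Quotient.mk J))) a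
    simp only [CommRingCat.comp_apply] at h1
    refine h1.symm.trans ?_
    show (Scheme.ΓSpecIso (CommRingCat.of (A ⧸ J))).inv (Ideal.Quotient.mk J a) = 0
    rw [Ideal.Quotient.eq_zero_iff_mem.2 ha, map_zero]
  rw [Scheme.Hom.appLE, Scheme.Hom.comp_app]
  show (Y.presheaf.map _).hom ((g.app _).hom (((Spec.map (CommRingCat.ofHom (Ideal.Quotient.mk J))).app ⊤).hom _)) = 0
  erw [h, map_zero, map_zero]

theorem res_res_self {Y : Scheme.{u}} {U V : Y.Opens} (f : Opposite.op U ⟶ Opposite.op V)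
    (g : Opposite.op V ⟶ Opposite.op U) (x : Γ(Y, U)) : Y.presheaf.map g (Y.presheaf.map f x) = x := by
  rw [← CommRingCat.comp_apply, ← Functor.map_comp, show f ≫ g = 𝟙 _ from Quiver.Hom.unop_inj (Subsingleton.elim _ _),
    CategoryTheory.Functor.map_id, CommRingCat.id_apply]

theorem schematicallyDense_of_mod_nilpotent {X : Scheme.{u}} (A : CommRingCat.{u}) (p : X ⟶ Spec A) [Flat p]
    (J : Ideal A) (hJ : IsNilpotent J) (hfree : ∀ k : ℕ, Module.Free (A ⧸ J) ((A ⧸ J) ⊗[A] ↥(J ^ k)))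
    {ι : Type u} (Z : ι → Scheme.{u}) (v : ∀ i, Z i ⟶ X) [∀ i, Flat (v i ≫ p)]
    (h0 : ∀ (V : (pullback p (Spec.map (CommRingCat.ofHom (Ideal.Quotient.mk J)))).Opens) (t : Γ(pullback p (Spec.map (CommRingCat.ofHom (Ideal.Quotient.mk J))), V)),
      (∀ i, (pullback.map (v i ≫ p) (Spec.map (CommRingCat.ofHom (Ideal.Quotient.mk J))) p (Spec.map (CommRingCat.ofHom (Ideal.Quotient.mk J))) (v i) (𝟙 _) (𝟙 _)
        (Category.comp_id _) ((Category.comp_id _).trans (Category.id_comp _).symm)).app V t = 0) → t = 0)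
    (V : X.Opens) (t : Γ(X, V)) (ht : ∀ i, (v i).app V t = 0) : t = 0 := by
  refine TopCat.Sheaf.eq_of_locally_eq' X.sheaf (fun U : {U : X.affineOpens // U.1 ≤ V} => U.1.1) V
    (fun U => homOfLE U.2) ?_ t 0 (fun U => ?_)
  · intro x hx
    obtain ⟨U, hU, hxU, hUV⟩ :=
      exists_isAffineOpen_mem_and_subset (X := X) (x := x) (U := V) hx
    exact TopologicalSpace.Opens.mem_iSup.2 ⟨⟨⟨U, hU⟩, hUV⟩, hxU⟩
  obtain ⟨⟨U, hU⟩, hUV⟩ := U
  simp only [map_zero]
  generalize htU : X.presheaf.map (homOfLE hUV).op t = tU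
  change X.presheaf.map (homOfLE hUV).op t = 0
  rw [htU]
  let qJ := Spec.map (CommRingCat.ofHom (Ideal.Quotient.mk J))
  let α : A →+* Γ(X, U) := (p.appLE ⊤ U le_top).hom.comp (Scheme.ΓSpecIso A).inv.hom
  let κ := Σ i, {W : (Z i).affineOpens // W.1 ≤ v i ⁻¹ᵁ U}
  let S : κ → Type u := fun w => Γ(Z w.1, w.2.1.1)
  let φ : ∀ w : κ, Γ(X, U) →+* S w := fun w => ((v w.1).appLE U w.2.1.1 w.2.2).hom
  have hφα : ∀ w : κ, (φ w).comp α = ((v w.1 ≫ p).appLE ⊤ w.2.1.1 le_top).hom.comp (Scheme.ΓSpecIso A).inv.hom := by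
    intro w
    rw [← Scheme.Hom.appLE_comp_appLE (v w.1) p ⊤ U w.2.1.1 le_top w.2.2]
    rfl
  have hflat : ∀ w : κ, ((φ w).comp α).Flat := by
    intro w
    rw [hφα]
    exact RingHom.Flat.comp (RingHom.Flat.of_bijective (Scheme.ΓSpecIso A).symm.commRingCatIsoToRingEquiv.bijective)
      ((v w.1 ≫ p).flat_appLE (isAffineOpen_top _) w.2.1.2 le_top)
  have hdet : ∀ r : Γ(X, U), (∀ w, φ w r ∈ J.map ((φ w).comp α)) → r ∈ J.map α := by
    intro r hr
    have hY : (pullback.fst p qJ).app U r = 0 := by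
      refine h0 _ _ fun i => app_comp_eq_zero _ _ ?_
      refine app_eq_zero_congr (pullback.lift_fst _ _ _).symm ?_
      show (pullback.fst (v i ≫ p) qJ).app (v i ⁻¹ᵁ U) ((v i).app U r) = 0
      refine TopCat.Sheaf.eq_of_locally_eq' (pullback (v i ≫ p) qJ).sheaf
        (fun W : {W : (Z i).affineOpens // W.1 ≤ v i ⁻¹ᵁ U} => pullback.fst (v i ≫ p) qJ ⁻¹ᵁ W.1.1) _
        (fun W => homOfLE ((TopologicalSpace.Opens.map _).map (homOfLE W.2)).le) ?_ _ 0 (fun W => ?_)
      · intro y hy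
        obtain ⟨W, hW, hyW, hWU⟩ :=
          exists_isAffineOpen_mem_and_subset (x := pullback.fst (v i ≫ p) qJ y) (U := v i ⁻¹ᵁ U) hy
        exact TopologicalSpace.Opens.mem_iSup.2 ⟨⟨⟨W, hW⟩, hWU⟩, hyW⟩
      simp only [map_zero]
      have e : ((v i).appLE U W.1.1 W.2 ≫ (pullback.fst (v i ≫ p) qJ).app W.1.1).hom r = 0 := by
        show ((pullback.fst (v i ≫ p) qJ).app W.1.1).hom (φ ⟨i, W⟩ r) = 0
        have hle : J.map ((φ ⟨i, W⟩).comp α) ≤
            RingHom.ker ((pullback.fst (v i ≫ p) qJ).app W.1.1).hom := by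
          rw [Ideal.map_le_iff_le_comap]
          intro a ha
          rw [Ideal.mem_comap, RingHom.mem_ker, hφα]
          have h := appLE_eq_zero_of_mem J (pullback.snd (v i ≫ p) qJ) (pullback.fst (v i ≫ p) qJ ⁻¹ᵁ W.1.1) ha
          simp only [show pullback.snd (v i ≫ p) qJ ≫ Spec.map (CommRingCat.ofHom (Ideal.Quotient.mk J)) =
            pullback.fst (v i ≫ p) qJ ≫ v i ≫ p from pullback.condition.symm] at h
          rw [← Scheme.Hom.appLE_comp_appLE (pullback.fst (v i ≫ p) qJ) (v i ≫ p) ⊤ W.1.1 _ le_top le_rfl,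
            ← Scheme.Hom.app_eq_appLE] at h
          exact h
        exact hle (hr ⟨i, W⟩)
      rw [Scheme.Hom.appLE, Category.assoc, Scheme.Hom.naturality] at e
      exact e.trans (map_zero _).symm
    let R' := CommRingCat.of (Γ(X, U) ⧸ J.map α)
    let π : Γ(X, U) ⟶ R' := CommRingCat.ofHom (Ideal.Quotient.mk _)
    let β : CommRingCat.of (A ⧸ J) ⟶ R' := CommRingCat.ofHom (Ideal.quotientMap _ α Ideal.le_comap_map)
    have hcond : (Spec.map π ≫ hU.fromSpec) ≫ p = Spec.map β ≫ qJ := by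
      rw [Category.assoc, ← IsAffineOpen.SpecMap_appLE_fromSpec p (isAffineOpen_top _) hU le_top,
        IsAffineOpen.fromSpec_top, Scheme.isoSpec_Spec_inv, ← Spec.map_comp, ← Spec.map_comp, ← Spec.map_comp]
      rfl
    have h1 : (Spec.map π ≫ hU.fromSpec).app U r = 0 := by
      refine app_eq_zero_congr (pullback.lift_fst _ _ hcond) ?_
      show (pullback.lift _ _ hcond).app _ ((pullback.fst p qJ).app U r) = 0
      rw [hY, map_zero]
    rw [Scheme.Hom.comp_app, hU.fromSpec_app_self] at h1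
    refine Ideal.Quotient.eq_zero_iff_mem.1 ?_
    show π r = 0
    have h2 := (congrArg ((Spec R').presheaf.map (eqToHom (show ⊤ = Spec.map π ⁻¹ᵁ hU.fromSpec ⁻¹ᵁ U by
      rw [hU.fromSpec_preimage_self]; rfl)).op) h1).trans (map_zero _)
    have h3 : ((Scheme.ΓSpecIso Γ(X, U)).inv ≫ (Spec.map π).appTop).hom r = 0 := by
      refine Eq.trans ?_ h2
      rw [Category.assoc, Scheme.Hom.naturality]
      simp only [CommRingCat.comp_apply, CommRingCat.hom_comp, RingHom.comp_apply]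
      exact (res_res_self _ _ _).symm
    rw [← Scheme.ΓSpecIso_inv_naturality] at h3
    exact (Scheme.ΓSpecIso R').commRingCatIsoToRingEquiv.symm.injective (h3.trans (map_zero _).symm)
  have hz : ∀ w : κ, φ w tU = 0 := by
    intro w
    rw [← htU]
    show ((v w.1).appLE U w.2.1.1 w.2.2).hom ((X.presheaf.map (homOfLE hUV).op).hom t) = 0
    rw [← CommRingCat.comp_apply, Scheme.Hom.map_appLE, Scheme.Hom.appLE, CommRingCat.comp_apply, ht, map_zero]
  have hk : ∀ k, tU ∈ (J ^ k).map α := by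
    intro k
    induction k with
    | zero => rw [pow_zero, Ideal.one_eq_top, Ideal.map_top]; trivial
    | succ k ih =>
      haveI := hfree k
      exact mem_map_succ J k α S φ hflat hdet ih hz
  obtain ⟨n, hn⟩ := hJ
  have h := hk n
  rwa [hn, Ideal.zero_eq_bot, Ideal.map_bot, Ideal.mem_bot] at h

end Groth.Agent.DenseNil
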